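import Mathlib.CategoryTheory.Sites.Point.Over
import Mathlib.CategoryTheory.Sites.Point.Basic
import Mathlib.CategoryTheory.Sites.ConstantSheaf
import Mathlib.CategoryTheory.Sites.Over
import Mathlib.CategoryTheory.Limits.Connected
import Mathlib.CategoryTheory.Filtered.Final

/-!
Fibres of restricted sheaves and of constant sheaves at points of sites.
-/

set_option autoImplicit false

universe w v u v' u'

open CategoryTheory Limits Opposite GrothendieckTopology

namespace Groth.L28.Pts

variable {C : Type u} [Category.{v} C] {J : GrothendieckTopology C} [LocallySmall.{w} C] (Φ : Point.{w} J)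
  {A : Type u'} [Category.{v'} A] [HasColimitsOfSize.{w, w} A]

section Over

variable {X : C} (x : Φ.fiber.obj X)

/-- the functor of elements underlying `presheafFiberOverIso` -/
abbrev elForget : (Φ.over x).fiber.Elements ⥤ Φ.fiber.Elements :=
  (FunctorToTypes.fromOverFunctorElementsEquivalence Φ.fiber x).functor ⋙ Over.forget _

instance : (elForget Φ x).Initial := inferInstanceAs
  ((FunctorToTypes.fromOverFunctorElementsEquivalence Φ.fiber x).functor ⋙ Over.forget _).Initial

/-- the fibre at `Φ.over x` of a restricted presheaf is the fibre at `Φ` (objectwise) -/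
noncomputable def presheafFiberOverObjIso (P : Cᵒᵖ ⥤ A) :
    (Φ.over x).presheafFiber.obj ((Over.forget X).op ⋙ P) ≅ Φ.presheafFiber.obj P :=
  Functor.Final.colimitIso (elForget Φ x).op ((CategoryOfElements.π Φ.fiber).op ⋙ P)

@[reassoc]
lemma toPresheafFiber_presheafFiberOverObjIso_hom (P : Cᵒᵖ ⥤ A) (Y : Over X) (y : (Φ.over x).fiber.obj Y) :
    (Φ.over x).toPresheafFiber Y y ((Over.forget X).op ⋙ P) ≫ (presheafFiberOverObjIso Φ x P).hom =
      Φ.toPresheafFiber Y.left y.1 P :=
  Functor.Final.ι_colimitIso_hom (elForget Φ x).op ((CategoryOfElements.π Φ.fiber).op ⋙ P)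
    (op ((Φ.over x).fiber.elementsMk Y y))

/-- the fibre at `Φ.over x` of a restricted presheaf is the fibre at `Φ` -/
noncomputable def presheafFiberOverIso :
    (Functor.whiskeringLeft _ _ A).obj (Over.forget X).op ⋙ (Φ.over x).presheafFiber ≅ Φ.presheafFiber :=
  NatIso.ofComponents (presheafFiberOverObjIso Φ x) fun {P Q} g =>
    (Φ.over x).presheafFiber_hom_ext fun Y y => by
      show (Φ.over x).toPresheafFiber Y y ((Over.forget X).op ⋙ P) ≫
          (Φ.over x).presheafFiber.map (Functor.whiskerLeft (Over.forget X).op g) ≫ _ = _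
      rw [Point.toPresheafFiber_naturality_assoc, toPresheafFiber_presheafFiberOverObjIso_hom]
      exact (Φ.toPresheafFiber_naturality g Y.left y.1).symm.trans
        (toPresheafFiber_presheafFiberOverObjIso_hom_assoc Φ x P Y y (Φ.presheafFiber.map g)).symm

/-- the fibre at `Φ.over x` of a restricted sheaf is the fibre at `Φ` -/
noncomputable def sheafFiberOverIso :
    J.overPullback A X ⋙ (Φ.over x).sheafFiber ≅ Φ.sheafFiber :=
  Functor.isoWhiskerLeft (sheafToPresheaf J A) (presheafFiberOverIso Φ x)

end Over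

section Const

/-- the fibre of a constant presheaf -/
noncomputable def presheafFiberConstIso (M : A) : Φ.presheafFiber.obj ((Functor.const Cᵒᵖ).obj M) ≅ M :=
  (colimit.isColimit _).coconePointUniqueUpToIso (isColimitConstCocone Φ.fiber.Elementsᵒᵖ M)

@[reassoc]
lemma toPresheafFiber_presheafFiberConstIso_hom (M : A) (U : C) (x : Φ.fiber.obj U) :
    Φ.toPresheafFiber U x ((Functor.const Cᵒᵖ).obj M) ≫ (presheafFiberConstIso Φ M).hom = 𝟙 M :=
  IsColimit.comp_coconePointUniqueUpToIso_hom (colimit.isColimit _) _
    (op (Φ.fiber.elementsMk U x))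

variable [HasWeakSheafify J A]

/-- the fibre of a constant sheaf -/
noncomputable def sheafFiberConstIso (hW : J.W.IsInvertedBy (Φ.presheafFiber (A := A))) (M : A) :
    Φ.sheafFiber.obj ((constantSheaf J A).obj M) ≅ M :=
  (haveI := hW _ (J.W_toSheafify ((Functor.const Cᵒᵖ).obj M));
    (asIso (Φ.presheafFiber.map (toSheafify J ((Functor.const Cᵒᵖ).obj M)))).symm) ≪≫ presheafFiberConstIso Φ M

/-- the global section of a constant sheaf -/
noncomputable def constSect (M : A) (U : C) : M ⟶ ((constantSheaf J A).obj M).obj.obj (op U) :=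
  (toSheafify J ((Functor.const Cᵒᵖ).obj M)).app (op U)

@[reassoc]
lemma constSect_map (M : A) {U V : C} (g : V ⟶ U) :
    constSect (J := J) M U ≫ ((constantSheaf J A).obj M).obj.map g.op = constSect M V := by
  have := (toSheafify J ((Functor.const Cᵒᵖ).obj M)).naturality g.op
  exact this.symm.trans (Category.id_comp _)

@[reassoc]
lemma constSect_app {M N : A} (h : M ⟶ N) (U : C) :
    constSect (J := J) M U ≫ ((constantSheaf J A).map h).hom.app (op U) = h ≫ constSect N U :=
  (congrArg (fun k => k.app (op U)) (toSheafify_naturality J ((Functor.const Cᵒᵖ).map h))).symm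

@[reassoc]
lemma constSect_sheafFiberConstIso_hom (hW : J.W.IsInvertedBy (Φ.presheafFiber (A := A))) (M : A)
    (U : C) (x : Φ.fiber.obj U) :
    constSect (J := J) M U ≫ Φ.toPresheafFiber U x _ ≫ (sheafFiberConstIso Φ hW M).hom = 𝟙 M := by
  haveI := hW _ (J.W_toSheafify ((Functor.const Cᵒᵖ).obj M))
  have h := Φ.toPresheafFiber_naturality (toSheafify J ((Functor.const Cᵒᵖ).obj M)) U x
  show (toSheafify J ((Functor.const Cᵒᵖ).obj M)).app (op U) ≫ Φ.toPresheafFiber U x _ ≫
    inv (Φ.presheafFiber.map (toSheafify J ((Functor.const Cᵒᵖ).obj M))) ≫ (presheafFiberConstIso Φ M).hom = _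
  rw [← Category.assoc, ← h, Category.assoc, IsIso.hom_inv_id_assoc, toPresheafFiber_presheafFiberConstIso_hom]

end Const

end Groth.L28.Pts
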