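import Groth.Prelude.Def_EtMod2
import Groth.Agent.L28.Pts.Basic
import Groth.Agent.L27.EtSite.Pull
import Mathlib.Algebra.Category.ModuleCat.FilteredColimits
import Mathlib.RingTheory.Finiteness.Basic
import Mathlib.Algebra.Category.Grp.AB

/-!
Stalks of sheaves of modules on small étale sites: constant sheaves, locally constant and constructible sheaves.
-/

set_option autoImplicit false

universe u

open CategoryTheory CategoryTheory.Limits AlgebraicGeometry Opposite GrothendieckTopology

set_option backward.isDefEq.respectTransparency.types false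

namespace Groth.L28.EtModStalk

variable (Λ : Type (u + 1)) [CommRing Λ]

instance : PreservesFilteredColimitsOfSize.{u, u} (forget (ModuleCat.{u + 1} Λ)) :=
  preservesFilteredColimitsOfSize_of_univLE.{u + 1, u + 1} _

variable {X : Scheme.{u}} {Ω : Type u} [Field Ω] [IsSepClosed Ω] (ξ : Spec (CommRingCat.of Ω) ⟶ X)

theorem inverted : X.smallEtaleTopology.W.IsInvertedBy
    ((Scheme.pointSmallEtale ξ).presheafFiber (A := ModuleCat.{u + 1} Λ)) :=
  Point.W_isInvertedBy_presheafFiber' _

/-- the stalk of a constant sheaf of modules -/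
noncomputable def stalkConstIso (M : ModuleCat.{u + 1} Λ) :
    (EtModW.stalk Λ ξ).obj ((constantSheaf X.smallEtaleTopology _).obj M) ≅ M :=
  Pts.sheafFiberConstIso _ (inverted Λ ξ) M

theorem stalk_const_eq_germ (M : ModuleCat.{u + 1} Λ) (U : X.Etale) (y : (Scheme.pointSmallEtale ξ).fiber.obj U)
    (t : (EtModW.stalk Λ ξ).obj ((constantSheaf X.smallEtaleTopology _).obj M)) :
    t = (Scheme.pointSmallEtale ξ).toPresheafFiber U y ((constantSheaf X.smallEtaleTopology _).obj M).obj
      (Pts.constSect (J := X.smallEtaleTopology) M U ((stalkConstIso Λ ξ M).hom t)) := by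
  refine ((stalkConstIso Λ ξ M).toLinearEquiv.injective ?_)
  exact (ConcreteCategory.congr_hom (Pts.constSect_sheafFiberConstIso_hom _ (inverted Λ ξ) M U y)
    ((stalkConstIso Λ ξ M).hom t)).symm

variable {Λ}

theorem restr_inverted {U : X.Etale} (y : (Scheme.pointSmallEtale ξ).fiber.obj U) :
    (X.smallEtaleTopology.over U).W.IsInvertedBy
      (((Scheme.pointSmallEtale ξ).over y).presheafFiber (A := ModuleCat.{u + 1} Λ)) :=
  Point.W_isInvertedBy_presheafFiber' _

theorem finite_stalk_of_isFTLocConst {F : EtModW.Mod Λ X} (hF : EtModW.IsFTLocConst Λ F) :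
    Module.Finite Λ ((EtModW.stalk Λ ξ).obj F) := by
  obtain ⟨ι, U, hU, h⟩ := hF
  obtain ⟨i, z, hz⟩ := hU (ξ default)
  obtain ⟨y, -⟩ := Groth.L27.EtSite.exists_fiber ξ (U i) z hz
  obtain ⟨M, _, _, _, ⟨e⟩⟩ := h i
  let e' : (EtModW.stalk Λ ξ).obj F ≅ ModuleCat.of Λ M :=
    ((Pts.sheafFiberOverIso (Scheme.pointSmallEtale ξ) y).app F).symm ≪≫
      ((Scheme.pointSmallEtale ξ).over y).sheafFiber.mapIso e ≪≫
      Pts.sheafFiberConstIso _ (restr_inverted ξ y) _
  exact Module.Finite.equiv e'.toLinearEquiv.symm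

end Groth.L28.EtModStalk
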