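import Groth.Agent.L28.Pts.Constr
import Groth.Agent.L28.AR.MapFunctor
import Groth.Prelude.Def_ARSys
import Mathlib.CategoryTheory.Linear.FunctorCategory

/-!
Linearity of stalks and inverse images of sheaves of modules.
-/

set_option autoImplicit false

universe u

open CategoryTheory CategoryTheory.Limits AlgebraicGeometry Opposite GrothendieckTopology

set_option backward.isDefEq.respectTransparency.types false

namespace Groth.L28.EtModStalk

variable {Λ : Type (u + 1)} [CommRing Λ] {X Y : Scheme.{u}} {Ω : Type u} [Field Ω] [IsSepClosed Ω]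

instance additive_stalk (ξ : Spec (CommRingCat.of Ω) ⟶ X) : (EtModW.stalk Λ ξ).Additive where
  map_add {F G f g} := (Scheme.pointSmallEtale ξ).presheafFiber_hom_ext fun U y => by
    show _ ≫ (Scheme.pointSmallEtale ξ).presheafFiber.map (f + g).hom =
      _ ≫ ((Scheme.pointSmallEtale ξ).presheafFiber.map f.hom + (Scheme.pointSmallEtale ξ).presheafFiber.map g.hom)
    rw [Preadditive.comp_add, Point.toPresheafFiber_naturality, Point.toPresheafFiber_naturality,
      Point.toPresheafFiber_naturality, ← Preadditive.add_comp]
    rfl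

instance linear_stalk (ξ : Spec (CommRingCat.of Ω) ⟶ X) : (EtModW.stalk Λ ξ).Linear Λ where
  map_smul {F G} f a := (Scheme.pointSmallEtale ξ).presheafFiber_hom_ext fun U y => by
    show _ ≫ (Scheme.pointSmallEtale ξ).presheafFiber.map (a • f).hom =
      _ ≫ (a • (Scheme.pointSmallEtale ξ).presheafFiber.map f.hom)
    rw [Linear.comp_smul, Point.toPresheafFiber_naturality, Point.toPresheafFiber_naturality, ← Linear.smul_comp]
    rfl

instance linear_push (f : X ⟶ Y) : (EtModW.push Λ f).Linear Λ where
  map_smul _ _ := rfl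

instance additive_pull (f : X ⟶ Y) : (EtModW.pull Λ f).Additive :=
  ((EtCoh.bc f).sheafAdjunctionContinuous (ModuleCat.{u + 1} Λ) Y.smallEtaleTopology
    X.smallEtaleTopology).left_adjoint_additive

instance linear_pull (f : X ⟶ Y) : (EtModW.pull Λ f).Linear Λ :=
  AR.linear_of_adjunction ((EtCoh.bc f).sheafAdjunctionContinuous (ModuleCat.{u + 1} Λ) Y.smallEtaleTopology
    X.smallEtaleTopology)

end Groth.L28.EtModStalk
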