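import Groth.Agent.L28.Pts.EtMod
import Mathlib.AlgebraicGeometry.AffineScheme
import Mathlib.AlgebraicGeometry.ResidueField

/-!
Stalks of constructible sheaves of modules are finite.
-/

set_option autoImplicit false

universe u

open CategoryTheory CategoryTheory.Limits AlgebraicGeometry Opposite GrothendieckTopology

set_option backward.isDefEq.respectTransparency.types false

namespace Groth.L28.EtModStalk

variable {Λ : Type (u + 1)} [CommRing Λ] {X Y : Scheme.{u}} {Ω : Type u} [Field Ω] [IsSepClosed Ω]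

instance : HasLimitsOfSize.{u, u} (ModuleCat.{u + 1} Λ) :=
  hasLimitsOfSizeShrink.{u, u, u + 1, u + 1} _

/-- stalks of inverse images of sheaves of modules -/
noncomputable def stalkPullModIso (f : X ⟶ Y) (ξ : Spec (CommRingCat.of Ω) ⟶ X) :
    EtModW.pull Λ f ⋙ EtModW.stalk Λ ξ ≅ EtModW.stalk Λ (ξ ≫ f) :=
  ((Scheme.pointSmallEtale ξ).sheafFiberComapIso (EtCoh.bc f) (EtCoh.coverPreserving_bc f)
    (ModuleCat.{u + 1} Λ)).symm ≪≫ Groth.L27.EtSite.sheafFiberCongr _ (Groth.L27.EtSite.comapPointIso f ξ)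

/-- a field-valued point lifts through an immersion containing its image -/
theorem exists_lift {T : Scheme.{u}} (g : T ⟶ X) [IsPreimmersion g] (ξ : Spec (CommRingCat.of Ω) ⟶ X)
    (h : ξ default ∈ Set.range g) : ∃ ξ' : Spec (CommRingCat.of Ω) ⟶ T, ξ' ≫ g = ξ := by
  obtain ⟨⟨x, a⟩, rfl⟩ := (Scheme.SpecToEquivOfField Ω X).symm.surjective ξ
  obtain ⟨t, ht⟩ := h
  obtain rfl : g t = x := ht.trans (by simp [Scheme.SpecToEquivOfField])
  haveI : IsIso (g.residueFieldMap t) := by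
    rw [ConcreteCategory.isIso_iff_bijective]
    refine ⟨RingHom.injective _, fun z => ?_⟩
    obtain ⟨w, rfl⟩ := T.residue_surjective t z
    obtain ⟨w', rfl⟩ := g.stalkMap_surjective t w
    exact ⟨X.residue _ w', congr($(Scheme.residue_residueFieldMap g t).hom w')⟩
  refine ⟨(Scheme.SpecToEquivOfField Ω T).symm ⟨t, inv (g.residueFieldMap t) ≫ a⟩, ?_⟩
  show (Spec.map (inv (g.residueFieldMap t) ≫ a) ≫ T.fromSpecResidueField t) ≫ g =
    Spec.map a ≫ X.fromSpecResidueField (g t)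
  rw [Category.assoc, ← g.SpecMap_residueFieldMap_fromSpecResidueField, ← Spec.map_comp_assoc,
    IsIso.hom_inv_id_assoc]

theorem finite_stalk_of_isConstructible {F : EtModW.Mod Λ X} (hF : EtModW.IsConstructible Λ F)
    (ξ : Spec (CommRingCat.of Ω) ⟶ X) : Module.Finite Λ ((EtModW.stalk Λ ξ).obj F) := by
  obtain ⟨U, hU, hx, -⟩ := exists_isAffineOpen_mem_and_subset (X := X) (x := ξ default) (U := ⊤) trivial
  obtain ⟨n, T, g, hg, -, -, hcov, hT⟩ := hF U hU
  obtain ⟨i, hi⟩ := Set.mem_iUnion.1 (hcov.symm ▸ hx : ξ default ∈ ⋃ i, Set.range (g i))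
  haveI := hg i
  obtain ⟨ξ', rfl⟩ := exists_lift (g i) ξ hi
  haveI : Module.Finite Λ ((EtModW.pull Λ (g i) ⋙ EtModW.stalk Λ ξ').obj F) :=
    finite_stalk_of_isFTLocConst ξ' (hT i)
  exact Module.Finite.equiv ((stalkPullModIso (g i) ξ').app F).toLinearEquiv

end Groth.L28.EtModStalk
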