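import Mathlib.CategoryTheory.Sites.Point.Comap
import Mathlib.CategoryTheory.Sites.Point.Category
import Groth.Agent.L27.EtSite.Pull

/-!
Germ formulas for fibres of inverse images of sheaves at points of sites.
-/

set_option autoImplicit false

universe u w v v₁ v₂ u₁ u₂ u'

open CategoryTheory Limits Opposite GrothendieckTopology

namespace Groth.L28.Pts

section General

variable {C : Type u₁} [Category.{v₁} C] {J : GrothendieckTopology C} (Φ : Point.{w} J)
  {A : Type u'} [Category.{v} A] [HasProducts.{w} A] [HasColimitsOfSize.{w, w} A]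

lemma unit_skyscraper_π (F : Sheaf J A) (U : C) (x : Φ.fiber.obj U) :
    (Φ.skyscraperSheafAdjunction.unit.app F).hom.app (op U) ≫
        Pi.π (fun _ : Φ.fiber.obj U => Φ.sheafFiber.obj F) x =
      Φ.toPresheafFiber U x F.obj := by
  rw [← Adjunction.homEquiv_id]
  exact (congrArg (fun k : F.obj ⟶ Φ.skyscraperPresheaf (Φ.sheafFiber.obj F) => k.app (op U) ≫ Pi.π _ x)
    (Φ.skyscraperSheafAdjunction_homEquiv_apply_hom (F := F) (𝟙 (Φ.presheafFiber.obj F.obj)))).trans
    ((Φ.skyscraperPresheafHomEquiv_app_π _ U x).trans (Category.comp_id _))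

variable {D : Type u₂} [Category.{v₂} D] {K : GrothendieckTopology D} (Ψ : Point.{w} K) (G : C ⥤ D)
  [RepresentablyFlat G] (hG : CoverPreserving J K G) [InitiallySmall (G ⋙ Ψ.fiber).Elements]
  [G.IsContinuous J K] [(G.sheafPushforwardContinuous A J K).IsRightAdjoint]

/-- the comparison iso for fibres of inverse images sends germs to germs of the unit -/
@[reassoc]
lemma toPresheafFiber_sheafFiberComapIso_hom (F : Sheaf J A) (U : C) (x : Ψ.fiber.obj (G.obj U)) :
    (Ψ.comap G hG).toPresheafFiber U x F.obj ≫ (Ψ.sheafFiberComapIso G hG A).hom.app F =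
      ((G.sheafAdjunctionContinuous A J K).unit.app F).hom.app (op U) ≫
        Ψ.toPresheafFiber (G.obj U) x ((G.sheafPullback A J K).obj F).obj := by
  have h := unit_conjugateEquiv_symm
    ((G.sheafAdjunctionContinuous A J K).comp Ψ.skyscraperSheafAdjunction)
    (Ψ.comap G hG).skyscraperSheafAdjunction
    (Ψ.skyscraperSheafFunctorCompSheafPushforwardContinuous G hG A).hom F
  rw [Adjunction.comp_unit_app] at h
  have h1 := congrArg (fun k => k.hom.app (op U) ≫
    Pi.π (fun _ : Ψ.fiber.obj (G.obj U) => Ψ.sheafFiber.obj ((G.sheafPullback A J K).obj F)) x) h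
  have h2 : ((Ψ.comap G hG).skyscraperSheafFunctor.map ((Ψ.sheafFiberComapIso G hG A).hom.app F)).hom.app (op U) ≫
      Pi.π (fun _ : Ψ.fiber.obj (G.obj U) => Ψ.sheafFiber.obj ((G.sheafPullback A J K).obj F)) x =
      Pi.π (fun _ : Ψ.fiber.obj (G.obj U) => (Ψ.comap G hG).sheafFiber.obj F) x ≫
        (Ψ.sheafFiberComapIso G hG A).hom.app F :=
    Limits.Pi.map_π (fun _ : Ψ.fiber.obj (G.obj U) => (Ψ.sheafFiberComapIso G hG A).hom.app F) x
  refine (congrArg (fun k => k ≫ (Ψ.sheafFiberComapIso G hG A).hom.app F)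
    (unit_skyscraper_π (Ψ.comap G hG) F U x)).symm.trans ?_
  refine (Category.assoc _ _ _).trans ?_
  refine (congrArg (fun k => ((Ψ.comap G hG).skyscraperSheafAdjunction.unit.app F).hom.app (op U) ≫ k) h2.symm).trans ?_
  refine (Category.assoc _ _ _).symm.trans ?_
  refine h1.symm.trans ?_
  refine (congrArg (fun k => k ≫ Pi.π _ x) (Category.comp_id _)).trans ?_
  refine (Category.assoc _ _ _).trans ?_
  exact congrArg (fun k => ((G.sheafAdjunctionContinuous A J K).unit.app F).hom.app (op U) ≫ k)
    (unit_skyscraper_π Ψ ((G.sheafPullback A J K).obj F) (G.obj U) x)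

end General

end Groth.L28.Pts
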